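import Groth.Agent.LeftInv.Apps

/-!
# Formal smoothness of localisations of a quotient of a formally smooth algebra
-/

set_option autoImplicit false
universe u v

open TensorProduct Algebra

namespace Groth.Agent.LeftInv

theorem subsingleton_and_projective_iff {T : Type u} [CommRing T] {H M N W : Type v}
    [AddCommGroup H] [Module T H] [AddCommGroup M] [Module T M] [AddCommGroup N] [Module T N]
    [AddCommGroup W] [Module T W] (h : H →ₗ[T] M) (f : M →ₗ[T] N) (g : N →ₗ[T] W)
    (hh : Function.Injective h) (hhf : Function.Exact h f) (hfg : Function.Exact f g)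
    (hg : Function.Surjective g) [Module.Projective T N] :
    (Subsingleton H ∧ Module.Projective T W) ↔ ∃ l, l ∘ₗ f = LinearMap.id := by
  constructor
  · rintro ⟨hH, hW⟩
    have hf : Function.Injective f := by
      rw [injective_iff_map_eq_zero]
      intro x hx
      obtain ⟨y, rfl⟩ := (hhf x).mp hx
      rw [Subsingleton.elim y 0, map_zero]
    obtain ⟨s, hs⟩ := Module.projective_lifting_property g LinearMap.id hg
    exact ((hfg.split_tfae hf hg).out 0 1 rfl rfl).mp ⟨s, hs⟩
  · rintro ⟨l, hl⟩
    have hf : Function.Injective f := Function.LeftInverse.injective (g := l) fun x =>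
      LinearMap.congr_fun hl x
    refine ⟨subsingleton_of_forall_eq 0 fun y => ?_, ?_⟩
    · apply hh
      apply hf
      rw [map_zero, map_zero, hhf.apply_apply_eq_zero]
    · obtain ⟨s, hs⟩ := ((hfg.split_tfae hf hg).out 1 0 rfl rfl).mp ⟨l, hl⟩
      exact Module.Projective.of_split s g hs

variable {A B C : Type u} [CommRing A] [CommRing B] [CommRing C] [Algebra A B] [Algebra B C]
  [Algebra A C] [IsScalarTower A B C]

/-- The extension `B → C` given by a surjection. -/
noncomputable def ext (hsurj : Function.Surjective (algebraMap B C)) : Extension.{u} A C where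
  Ring := B
  σ := Function.surjInv hsurj
  algebraMap_σ := Function.surjInv_eq hsurj

variable (hsurj : Function.Surjective (algebraMap B C))
include hsurj

instance [Algebra.FormallySmooth A B] : Algebra.FormallySmooth A (ext (A := A) hsurj).Ring :=
  ‹Algebra.FormallySmooth A B›

instance [Algebra.FormallySmooth A B] :
    Module.Projective C (ext (A := A) hsurj).CotangentSpace := by
  haveI : Module.Projective B Ω[B⁄A] := inferInstance
  exact inferInstanceAs (Module.Projective C (C ⊗[B] Ω[B⁄A]))

/-- `J / J² ≃ P.Cotangent`, over `B`. -/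
noncomputable def cotEquiv :
    (RingHom.ker (algebraMap B C)).Cotangent ≃ₗ[B] (ext (A := A) hsurj).Cotangent :=
  (ext (A := A) hsurj).cotangentEquivCotangentKer.symm

theorem finite_cotangent [Module.Finite B (RingHom.ker (algebraMap B C)).Cotangent] :
    Module.Finite C (ext (A := A) hsurj).Cotangent := by
  haveI : IsScalarTower B C (ext (A := A) hsurj).Cotangent :=
    inferInstanceAs (IsScalarTower (ext (A := A) hsurj).Ring C (ext (A := A) hsurj).Cotangent)
  haveI : Module.Finite B (ext (A := A) hsurj).Cotangent :=
    Module.Finite.equiv (cotEquiv (A := A) hsurj)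
  exact Module.Finite.of_restrictScalars_finite B C _

/-- Formal smoothness of a localisation in terms of left invertibility. -/
theorem formallySmooth_localization_iff [Algebra.FormallySmooth A B]
    [Module.Finite B (RingHom.ker (algebraMap B C)).Cotangent] (S : Submonoid C) :
    Algebra.FormallySmooth A (Localization S) ↔
      ∃ a ∈ S, LeftInvAt (ext (A := A) hsurj).cotangentComplex a := by
  haveI := finite_cotangent (A := A) hsurj
  set P := ext (A := A) hsurj
  let h0 : H1Cotangent A C →ₗ[C] P.Cotangent :=
    Extension.h1Cotangentι ∘ₗ P.equivH1CotangentOfFormallySmooth.symm.toLinearMap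
  have hh0 : Function.Injective h0 :=
    Extension.h1Cotangentι_injective.comp P.equivH1CotangentOfFormallySmooth.symm.injective
  have he0 : Function.Exact h0 P.cotangentComplex := by
    intro x
    rw [P.exact_hCotangentι_cotangentComplex x]
    constructor
    · rintro ⟨y, rfl⟩
      exact ⟨P.equivH1CotangentOfFormallySmooth y, by simp [h0]⟩
    · rintro ⟨y, rfl⟩
      exact ⟨_, rfl⟩
  let fH := Algebra.H1Cotangent.map A A C (Localization S)
  let fW := KaehlerDifferential.map A A C (Localization S)
  let fM := LocalizedModule.mkLinearMap S P.Cotangent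
  let fN := LocalizedModule.mkLinearMap S P.CotangentSpace
  let T := Localization S
  haveI : Module.Projective T (LocalizedModule S P.CotangentSpace) :=
    inferInstanceAs (Module.Projective (Localization S) (LocalizedModule S P.CotangentSpace))
  let h' : H1Cotangent A T →ₗ[T] LocalizedModule S P.Cotangent :=
    IsLocalizedModule.mapExtendScalars S fH fM T h0
  let u' : LocalizedModule S P.Cotangent →ₗ[T] LocalizedModule S P.CotangentSpace :=
    IsLocalizedModule.mapExtendScalars S fM fN T P.cotangentComplex
  let g' : LocalizedModule S P.CotangentSpace →ₗ[T] Ω[T⁄A] :=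
    IsLocalizedModule.mapExtendScalars S fN fW T P.toKaehler
  have e1 : Function.Exact h' u' :=
    IsLocalizedModule.map_exact S fH fM fN h0 P.cotangentComplex he0
  have e2 : Function.Exact u' g' :=
    IsLocalizedModule.map_exact S fM fN fW _ _ P.exact_cotangentComplex_toKaehler
  have e3 : Function.Injective h' := IsLocalizedModule.map_injective S fH fM h0 hh0
  have e4 : Function.Surjective g' := IsLocalizedModule.map_surjective S fN fW _ P.toKaehler_surjective
  have key := subsingleton_and_projective_iff (M := LocalizedModule S P.Cotangent) (N := LocalizedModule S P.CotangentSpace) (W := Ω[T⁄A]) h' u' g' e3 e1 e2 e4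
  rw [Algebra.formallySmooth_iff, and_comm, key,
    ← exists_leftInverse_map_iff (M' := LocalizedModule S P.Cotangent)
      (N' := LocalizedModule S P.CotangentSpace) P.cotangentComplex S fM fN]
  constructor
  · rintro ⟨l, hl⟩
    refine ⟨l.restrictScalars C, ?_⟩
    ext x
    exact LinearMap.congr_fun hl x
  · rintro ⟨l, hl⟩
    refine ⟨LinearMap.extendScalarsOfIsLocalization S T l, ?_⟩
    ext x
    exact LinearMap.congr_fun hl x

theorem formallySmooth_iff_leftInverse [Algebra.FormallySmooth A B] :
    Algebra.FormallySmooth A C ↔
      ∃ w, w ∘ₗ (ext (A := A) hsurj).cotangentComplex = LinearMap.id :=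
  (ext (A := A) hsurj).formallySmooth_iff_split_injection

theorem formallySmooth_iff_forall_maximal [Algebra.FormallySmooth A B]
    [Module.Finite B (RingHom.ker (algebraMap B C)).Cotangent] :
    Algebra.FormallySmooth A C ↔
      ∀ (m : Ideal C) [m.IsMaximal], Algebra.FormallySmooth A (Localization.AtPrime m) := by
  rw [formallySmooth_iff_leftInverse hsurj, exists_leftInverse_iff_forall_maximal]
  exact forall_congr' fun m => forall_congr' fun _ =>
    (formallySmooth_localization_iff hsurj m.primeCompl).symm

theorem formallySmooth_atPrime_iff_away [Algebra.FormallySmooth A B]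
    [Module.Finite B (RingHom.ker (algebraMap B C)).Cotangent] (p : Ideal C) [p.IsPrime] :
    Algebra.FormallySmooth A (Localization.AtPrime p) ↔
      ∃ f : C, f ∉ p ∧ Algebra.FormallySmooth A (Localization.Away f) := by
  rw [formallySmooth_localization_iff hsurj p.primeCompl]
  constructor
  · rintro ⟨f, hf, h⟩
    exact ⟨f, hf, (formallySmooth_localization_iff hsurj _).mpr ⟨f, Submonoid.mem_powers f, h⟩⟩
  · rintro ⟨f, hf, h⟩
    obtain ⟨a, ⟨n, rfl⟩, ha⟩ := (formallySmooth_localization_iff hsurj _).mp h
    exact ⟨f ^ n, fun h0 => hf (‹p.IsPrime›.mem_of_pow_mem n h0), ha⟩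

theorem formallySmooth_atPrime_iff_injective [Algebra.FormallySmooth A B]
    [Module.Finite B (RingHom.ker (algebraMap B C)).Cotangent] (p : Ideal C) [p.IsPrime] :
    Algebra.FormallySmooth A (Localization.AtPrime p) ↔
      Function.Injective ((KaehlerDifferential.kerCotangentToTensor A B C).lTensor p.ResidueField) := by
  haveI := finite_cotangent (A := A) hsurj
  rw [formallySmooth_localization_iff hsurj p.primeCompl]
  rw [show (∃ a ∈ p.primeCompl, LeftInvAt (ext (A := A) hsurj).cotangentComplex a) ↔
      (∃ a ∉ p, LeftInvAt (ext (A := A) hsurj).cotangentComplex a) from Iff.rfl,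
    exists_leftInvAt_iff_injective]
  haveI : IsScalarTower B C (ext (A := A) hsurj).Cotangent :=
    inferInstanceAs (IsScalarTower (ext (A := A) hsurj).Ring C (ext (A := A) hsurj).Cotangent)
  haveI : IsScalarTower B C p.ResidueField := inferInstance
  haveI := TensorProduct.CompatibleSMul.of_algebraMap_surjective (R := B) (A := C) p.ResidueField
    (ext (A := A) hsurj).Cotangent hsurj
  haveI := TensorProduct.CompatibleSMul.of_algebraMap_surjective (R := B) (A := C) p.ResidueField
    (C ⊗[B] Ω[B⁄A]) hsurj
  let eM := TensorProduct.equivOfCompatibleSMul C B B p.ResidueField (ext (A := A) hsurj).Cotangent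
  let eN := TensorProduct.equivOfCompatibleSMul C B B p.ResidueField (C ⊗[B] Ω[B⁄A])
  let e0 := (cotEquiv (A := A) hsurj).lTensor p.ResidueField
  have hcomm : ∀ y, (ext (A := A) hsurj).cotangentComplex.lTensor p.ResidueField (eM (e0 y)) =
      eN ((KaehlerDifferential.kerCotangentToTensor A B C).lTensor p.ResidueField y) := by
    intro y
    induction y with
    | zero => simp only [map_zero]; rfl
    | add a b ha hb => simp only [map_add, ha, hb]; rfl
    | tmul a b => simp [eM, eN, e0]; rfl
  constructor
  · intro h a b hab
    apply e0.injective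
    apply eM.injective
    apply h
    rw [hcomm, hcomm, hab]
  · intro h a b hab
    obtain ⟨a, rfl⟩ := eM.surjective a
    obtain ⟨a, rfl⟩ := e0.surjective a
    obtain ⟨b, rfl⟩ := eM.surjective b
    obtain ⟨b, rfl⟩ := e0.surjective b
    rw [hcomm, hcomm] at hab
    rw [h (eN.injective hab)]

end Groth.Agent.LeftInv
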