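import Groth.Agent.LeftInv.Basic

set_option autoImplicit false
universe u v

open TensorProduct

namespace Groth.Agent.LeftInv

variable {A : Type u} [CommRing A] {M N : Type v} [AddCommGroup M] [Module A M]
  [AddCommGroup N] [Module A N] (u : M →ₗ[A] N)

theorem exists_leftInverse_localizedModule_iff (S : Submonoid A) [Module.Finite A M]
    [Module.Projective A N] :
    (∃ w : LocalizedModule S N →ₗ[A] LocalizedModule S M,
        w ∘ₗ (LocalizedModule.map S u).restrictScalars A = LinearMap.id) ↔
      ∃ a ∈ S, LeftInvAt u a := by
  have key : (LocalizedModule.map S u).restrictScalars A =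
      IsLocalizedModule.map S (LocalizedModule.mkLinearMap S M) (LocalizedModule.mkLinearMap S N) u := by
    apply IsLocalizedModule.linearMap_ext S (LocalizedModule.mkLinearMap S M)
      (LocalizedModule.mkLinearMap S N)
    ext y
    simp [IsLocalizedModule.map_LocalizedModules]
  rw [key]
  exact exists_leftInverse_map_iff u S _ _

theorem exists_leftInverse_iff_mod (J : Ideal A) [Module.Projective A N]
    (hJ : IsNilpotent J ∨ (J ≤ (⊥ : Ideal A).jacobson ∧ Module.Finite A M)) :
    (∃ w : N →ₗ[A] M, w ∘ₗ u = LinearMap.id) ↔
      ∃ v : N →ₗ[A] M ⧸ (J • ⊤ : Submodule A M), v ∘ₗ u = (J • ⊤ : Submodule A M).mkQ := by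
  constructor
  · rintro ⟨w, hw⟩
    exact ⟨(J • ⊤ : Submodule A M).mkQ ∘ₗ w, by rw [LinearMap.comp_assoc, hw, LinearMap.comp_id]⟩
  · rintro ⟨v, hv⟩
    obtain ⟨w, hw⟩ := Module.projective_lifting_property (J • ⊤ : Submodule A M).mkQ v
      (Submodule.mkQ_surjective _)
    set t := w ∘ₗ u with ht
    have hmod : ∀ y, t y - y ∈ (J • ⊤ : Submodule A M) := by
      intro y
      rw [← Submodule.Quotient.eq]
      change ((J • ⊤ : Submodule A M).mkQ ∘ₗ w) (u y) = _
      rw [hw]
      exact LinearMap.congr_fun hv y
    have hbij : Function.Bijective t := by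
      rcases hJ with ⟨k, hk⟩ | ⟨hjac, hfin⟩
      · rw [← Module.End.isUnit_iff]
        let ε : Module.End A M := t - 1
        have hε : ∀ n y, (ε ^ n) y ∈ (J ^ n • ⊤ : Submodule A M) := by
          intro n
          induction n with
          | zero => intro y; simp
          | succ n ih =>
            intro y
            have hmap : ∀ z ∈ (J ^ n • ⊤ : Submodule A M),
                ε z ∈ (J ^ (n + 1) • ⊤ : Submodule A M) := by
              intro z hz
              rw [pow_succ, Submodule.mul_smul]
              refine Submodule.smul_induction_on hz (fun r hr x _ => ?_) (fun a b ha hb => ?_)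
              · rw [map_smul]
                exact Submodule.smul_mem_smul hr (hmod x)
              · rw [map_add]; exact add_mem ha hb
            rw [pow_succ' ε]
            exact hmap _ (ih y)
        have hnil : IsNilpotent ε := ⟨k, LinearMap.ext fun y => by
          simpa [hk] using hε k y⟩
        have : t = ε + 1 := by simp [ε]
        rw [this]
        exact hnil.isUnit_add_one
      · have hsurj : Function.Surjective t := by
          rw [← LinearMap.range_eq_top, eq_top_iff]
          refine Submodule.le_of_le_smul_of_le_jacobson_bot Module.Finite.fg_top hjac ?_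
          intro y _
          exact Submodule.mem_sup.mpr ⟨t y, LinearMap.mem_range_self t y, y - t y,
            by simpa using neg_mem (hmod y), by simp⟩
        exact OrzechProperty.bijective_of_surjective_endomorphism t hsurj
    refine ⟨(LinearEquiv.ofBijective t hbij).symm.toLinearMap ∘ₗ w, ?_⟩
    ext y
    exact (LinearEquiv.ofBijective t hbij).symm_apply_apply y

theorem exists_leftInverse_iff_baseChange [Module.Finite A M] [Module.Projective A N]
    (A' : Type v) [CommRing A'] [Algebra A A'] [Module.FaithfullyFlat A A'] :
    (∃ w : N →ₗ[A] M, w ∘ₗ u = LinearMap.id) ↔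
      ∃ w : A' ⊗[A] N →ₗ[A'] A' ⊗[A] M, w ∘ₗ u.baseChange A' = LinearMap.id := by
  constructor
  · rintro ⟨w, hw⟩
    exact ⟨w.baseChange A', by rw [← LinearMap.baseChange_comp, hw, LinearMap.baseChange_id]⟩
  · rintro ⟨w, hw⟩
    rw [exists_leftInverse_iff_forall_maximal]
    intro m hm
    rw [exists_leftInvAt_iff_injective u m,
      ← Module.FaithfullyFlat.lTensor_injective_iff_injective A A']
    let eM := TensorProduct.leftComm A A' m.ResidueField M
    let eN := TensorProduct.leftComm A A' m.ResidueField N
    let L := (w.restrictScalars A).lTensor m.ResidueField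
    have hL : ∀ y, L ((u.lTensor A').lTensor m.ResidueField y) = y := by
      intro y
      have : (w.restrictScalars A) ∘ₗ (u.lTensor A') = LinearMap.id := by
        ext a b
        exact LinearMap.congr_fun hw (a ⊗ₜ b)
      rw [← LinearMap.comp_apply, ← LinearMap.lTensor_comp, this, LinearMap.lTensor_id,
        LinearMap.id_apply]
    have hcomm : ∀ y, eN ((u.lTensor m.ResidueField).lTensor A' y) =
        (u.lTensor A').lTensor m.ResidueField (eM y) := by
      intro y
      induction y with
      | zero => simp
      | add a b ha hb => simp only [map_add, ha, hb]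
      | tmul a z =>
        induction z with
        | zero => simp
        | add b c hb hc => simp only [TensorProduct.tmul_add, map_add, hb, hc]
        | tmul b c => simp [eM, eN]
    intro a b hab
    apply eM.injective
    rw [← hL (eM a), ← hL (eM b), ← hcomm, ← hcomm, hab]

end Groth.Agent.LeftInv
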