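import Mathlib

/-!
# Left invertibility of a map from a finite module into a projective module

`LeftInvAt u f` says that some `w` satisfies `w ∘ u = f`.  For `M` finite, `N` projective the
primes `p` with some `f ∉ p` of this kind are exactly those at which `u` is left invertible after
localisation, and exactly those with `κ(p) ⊗ u` injective.
-/

set_option autoImplicit false
universe u v

open TensorProduct

namespace Groth.Agent.LeftInv

variable {A : Type u} [CommRing A] {M N : Type v} [AddCommGroup M] [Module A M]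
  [AddCommGroup N] [Module A N] (u : M →ₗ[A] N)

/-- `f` admits a left inverse of `u` up to multiplication by `f`. -/
def LeftInvAt (f : A) : Prop := ∃ w : N →ₗ[A] M, w ∘ₗ u = f • LinearMap.id

/-- The ideal of elements `f` with `LeftInvAt u f`. -/
def leftInvIdeal : Ideal A where
  carrier := {f | LeftInvAt u f}
  add_mem' := by
    rintro a b ⟨w, hw⟩ ⟨w', hw'⟩
    exact ⟨w + w', by rw [LinearMap.add_comp, hw, hw', add_smul]⟩
  zero_mem' := ⟨0, by simp⟩
  smul_mem' := by
    rintro c a ⟨w, hw⟩
    exact ⟨c • w, by rw [LinearMap.smul_comp, hw, smul_smul, smul_eq_mul]⟩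

theorem mem_leftInvIdeal {f : A} : f ∈ leftInvIdeal u ↔ LeftInvAt u f := Iff.rfl

theorem exists_leftInverse_iff_leftInvIdeal :
    (∃ w : N →ₗ[A] M, w ∘ₗ u = LinearMap.id) ↔ leftInvIdeal u = ⊤ := by
  rw [Ideal.eq_top_iff_one, mem_leftInvIdeal, LeftInvAt, one_smul]

theorem exists_leftInverse_iff_forall_maximal :
    (∃ w : N →ₗ[A] M, w ∘ₗ u = LinearMap.id) ↔
      ∀ (m : Ideal A) [m.IsMaximal], ∃ f ∉ m, LeftInvAt u f := by
  rw [exists_leftInverse_iff_leftInvIdeal]
  constructor
  · intro h m hm
    exact ⟨1, (Ideal.ne_top_iff_one m).mp hm.ne_top, by rw [← mem_leftInvIdeal, h]; trivial⟩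
  · intro h
    by_contra hne
    obtain ⟨m, hm, hle⟩ := Ideal.exists_le_maximal _ hne
    haveI := hm
    obtain ⟨f, hf, hfu⟩ := h m
    exact hf (hle hfu)

theorem isOpen_setOf_exists_leftInvAt :
    IsOpen {p : PrimeSpectrum A | ∃ f ∉ p.asIdeal, LeftInvAt u f} := by
  have : {p : PrimeSpectrum A | ∃ f ∉ p.asIdeal, LeftInvAt u f} =
      ⋃ f ∈ {f : A | LeftInvAt u f}, (PrimeSpectrum.basicOpen f : Set (PrimeSpectrum A)) := by
    ext p
    constructor
    · rintro ⟨f, hf, hfu⟩
      exact Set.mem_biUnion hfu hf
    · intro hp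
      obtain ⟨f, hfu, hf⟩ := Set.mem_iUnion₂.mp hp
      exact ⟨f, hf, hfu⟩
  rw [this]
  exact isOpen_biUnion fun f _ => (PrimeSpectrum.basicOpen f).isOpen

/-- A minor outside `p` gives a left inverse up to an element outside `p`. -/
theorem leftInvAt_of_minor (p : Ideal A) [p.IsPrime] [Module.Finite A M] {m : ℕ} (x : Fin m → M)
    (φ : Fin m → (N →ₗ[A] A)) (hd : (Matrix.of fun j i => φ j (u (x i))).det ∉ p)
    (hgen : ∀ y : M, ∃ s ∉ p, s • y ∈ Submodule.span A (Set.range x)) :
    ∃ f ∉ p, LeftInvAt u f := by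
  classical
  obtain ⟨G, hG⟩ := (Module.Finite.fg_top : (⊤ : Submodule A M).FG)
  choose s hs hsx using hgen
  let S : A := ∏ y ∈ G, s y
  have hS : S ∉ p := fun h => by
    obtain ⟨y, _, hy⟩ := Ideal.IsPrime.prod_mem_iff.mp h
    exact hs y hy
  have hspan : ∀ y : M, S • y ∈ Submodule.span A (Set.range x) := by
    intro y
    have hy : y ∈ Submodule.span A (G : Set M) := by rw [hG]; trivial
    induction hy using Submodule.span_induction with
    | mem y hy =>
      have hSy : S = (∏ z ∈ G.erase y, s z) * s y := (Finset.prod_erase_mul G s hy).symm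
      rw [hSy, mul_smul]
      exact Submodule.smul_mem _ _ (hsx y)
    | zero => simp
    | add a b _ _ ha hb => rw [smul_add]; exact add_mem ha hb
    | smul c a _ ha => rw [smul_comm]; exact Submodule.smul_mem _ _ ha
  set c : Matrix (Fin m) (Fin m) A := Matrix.of fun j i => φ j (u (x i)) with hc
  let w0 : N →ₗ[A] M := ∑ i, ((∑ j, c.adjugate i j • φ j).smulRight (x i))
  have hw0 : ∀ k, w0 (u (x k)) = c.det • x k := by
    intro k
    simp only [w0, LinearMap.sum_apply, LinearMap.smulRight_apply, LinearMap.smul_apply,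
      smul_eq_mul]
    have : ∀ i, (∑ j, c.adjugate i j * φ j (u (x k))) = (c.det • (1 : Matrix (Fin m) (Fin m) A)) i k := by
      intro i
      rw [← Matrix.adjugate_mul, Matrix.mul_apply]
      rfl
    simp only [this, Matrix.smul_apply, Matrix.one_apply, smul_eq_mul, mul_ite, mul_one, mul_zero,
      ite_smul, zero_smul, Finset.sum_ite_eq', Finset.mem_univ, if_true]
  refine ⟨S * c.det, fun h => ((‹p.IsPrime›).mem_or_mem h).elim hS hd, S • w0, ?_⟩
  ext y
  simp only [LinearMap.comp_apply, LinearMap.smul_apply, LinearMap.id_apply]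
  have key : ∀ z ∈ Submodule.span A (Set.range x), w0 (u z) = c.det • z := by
    intro z hz
    induction hz using Submodule.span_induction with
    | mem z hz => obtain ⟨k, rfl⟩ := hz; exact hw0 k
    | zero => simp
    | add a b _ _ ha hb => simp [map_add, ha, hb, smul_add]
    | smul r a _ ha => rw [map_smul, map_smul, ha, smul_comm]
  rw [← map_smul, ← map_smul, key _ (hspan y), mul_comm, mul_smul]

section Field

variable {K : Type*} [Field K] [Algebra A K]

theorem lTensor_injective_of_leftInvAt {f : A} (hf : algebraMap A K f ≠ 0) (h : LeftInvAt u f) :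
    Function.Injective (u.lTensor K) := by
  obtain ⟨w, hw⟩ := h
  intro a b hab
  have h1 : (w ∘ₗ u).lTensor K a = (w ∘ₗ u).lTensor K b := by
    rw [LinearMap.lTensor_comp, LinearMap.comp_apply, hab, LinearMap.comp_apply]
  rw [hw, LinearMap.lTensor_smul, LinearMap.lTensor_id, LinearMap.smul_apply, LinearMap.smul_apply,
    LinearMap.id_apply, LinearMap.id_apply, ← algebraMap_smul K f a, ← algebraMap_smul K f b] at h1
  exact smul_right_injective _ hf h1

/-- Linearly independent vectors of `K ⊗ N`, `N` projective, are detected by functionals on `N`. -/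
theorem exists_functionals [Module.Projective A N] {m : ℕ} (z : Fin m → N)
    (hz : LinearIndependent K fun i => (1 : K) ⊗ₜ[A] z i) :
    ∃ φ : Fin m → (N →ₗ[A] A), algebraMap A K (Matrix.of fun j i => φ j (z i)).det ≠ 0 := by
  classical
  let v : (N →ₗ[A] A) → (Fin m → K) := fun φ i => algebraMap A K (φ (z i))
  have hspan : Submodule.span K (Set.range v) = ⊤ := by
    by_contra hne
    obtain ⟨g, hg0, hgle⟩ := Submodule.exists_le_ker_of_lt_top _ (lt_top_iff_ne_top.mpr hne)
    obtain ⟨s, hs⟩ := Module.projective_def'.mp ‹Module.Projective A N›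
    let c : Fin m → K := fun i => g (Pi.single i 1)
    have hgv : ∀ y : Fin m → K, g y = ∑ i, y i * c i := by
      intro y
      conv_lhs => rw [← Finset.univ_sum_single y]
      rw [map_sum]
      refine Finset.sum_congr rfl fun i _ => ?_
      rw [show Pi.single i (y i) = y i • Pi.single i (1 : K) by
        rw [← Pi.single_smul, smul_eq_mul, mul_one], map_smul, smul_eq_mul]
    have hzero : ∑ i, c i ⊗ₜ[A] z i = 0 := by
      have hinj : Function.Injective (s.lTensor K) := by
        refine Function.LeftInverse.injective (g := (Finsupp.linearCombination A id).lTensor K) ?_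
        intro t
        rw [← LinearMap.comp_apply, ← LinearMap.lTensor_comp, hs, LinearMap.lTensor_id,
          LinearMap.id_apply]
      apply hinj
      apply (TensorProduct.finsuppScalarRight A A K N).injective
      rw [map_zero, map_zero]
      ext t
      rw [map_sum, map_sum, Finsupp.finsetSum_apply, Finsupp.zero_apply]
      simp only [LinearMap.lTensor_tmul, TensorProduct.finsuppScalarRight_apply_tmul_apply]
      have := LinearMap.mem_ker.mp (hgle (Submodule.subset_span ⟨Finsupp.lapply t ∘ₗ s, rfl⟩))
      rw [hgv] at this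
      simpa [v, Algebra.smul_def] using this
    have hc : ∀ i, c i = 0 := Fintype.linearIndependent_iff.mp hz c (by
      simpa [TensorProduct.smul_tmul'] using hzero)
    apply hg0
    ext y
    simp [hc, hgv]
  obtain ⟨κ, a, _, hsp, hli⟩ := exists_linearIndependent' K v
  rw [hspan] at hsp
  haveI : Finite κ := hli.finite
  haveI := Fintype.ofFinite κ
  let b := Module.Basis.mk hli hsp.ge
  have hcard : Fintype.card κ = m := by
    have h1 := Module.finrank_eq_card_basis b
    rw [Module.finrank_fin_fun] at h1
    exact h1.symm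
  let e : Fin m ≃ κ := (Fintype.equivFinOfCardEq hcard).symm
  refine ⟨fun j => a (e j), ?_⟩
  rw [RingHom.map_det]
  refine ((Matrix.isUnit_iff_isUnit_det _).mp ?_).ne_zero
  rw [← Matrix.linearIndependent_rows_iff_isUnit]
  have h2 := hli.comp e e.injective
  exact h2

end Field

/-- Injectivity of `κ(p) ⊗ u` gives generators with a minor outside `p`. -/
theorem exists_minor_of_injective [Module.Finite A M] [Module.Projective A N] (p : Ideal A)
    [p.IsPrime] (hinj : Function.Injective (u.lTensor p.ResidueField)) :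
    ∃ (m : ℕ) (x : Fin m → M) (φ : Fin m → (N →ₗ[A] A)),
      (Matrix.of fun j i => φ j (u (x i))).det ∉ p ∧
      ∀ y : M, ∃ s ∉ p, s • y ∈ Submodule.span A (Set.range x) := by
  classical
  obtain ⟨n, v, hv⟩ := Module.Finite.exists_fin (R := A) (M := M)
  let t : Fin n → p.ResidueField ⊗[A] M := fun i => 1 ⊗ₜ v i
  have hts : Submodule.span p.ResidueField (Set.range t) = ⊤ := by
    rw [eq_top_iff]
    intro y _
    induction y with
    | zero => simp
    | add a b ha hb => exact add_mem (ha trivial) (hb trivial)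
    | tmul r y =>
      have hy : y ∈ Submodule.span A (Set.range v) := by rw [hv]; trivial
      induction hy using Submodule.span_induction with
      | mem y hy =>
        obtain ⟨i, rfl⟩ := hy
        have : r ⊗ₜ[A] v i = r • t i := by simp [t, TensorProduct.smul_tmul']
        rw [this]
        exact Submodule.smul_mem _ _ (Submodule.subset_span ⟨i, rfl⟩)
      | zero => simp
      | add a b _ _ ha hb => rw [TensorProduct.tmul_add]; exact add_mem (ha trivial) (hb trivial)
      | smul c a _ ha =>
        rw [TensorProduct.tmul_smul, ← algebraMap_smul p.ResidueField c (r ⊗ₜ[A] a)]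
        exact Submodule.smul_mem _ _ (ha trivial)
  obtain ⟨κ, a, ha, hsp, hli⟩ := exists_linearIndependent' p.ResidueField t
  rw [hts] at hsp
  haveI : Finite κ := Finite.of_injective a ha
  haveI := Fintype.ofFinite κ
  let e : Fin (Fintype.card κ) ≃ κ := (Fintype.equivFin κ).symm
  let x : Fin (Fintype.card κ) → M := fun i => v (a (e i))
  have hxli : LinearIndependent p.ResidueField fun i => (1 : p.ResidueField) ⊗ₜ[A] u (x i) := by
    have h1 : LinearIndependent p.ResidueField fun i => (1 : p.ResidueField) ⊗ₜ[A] x i :=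
      hli.comp e e.injective
    refine (h1.map' (u.baseChange p.ResidueField) ?_)
    rw [LinearMap.ker_eq_bot]
    intro y y' hyy
    exact hinj hyy
  have hxspan : Submodule.span p.ResidueField
      (Set.range fun i => (1 : p.ResidueField) ⊗ₜ[A] x i) = ⊤ := by
    rw [← hsp]
    congr 1
    ext y
    constructor
    · rintro ⟨i, rfl⟩; exact ⟨e i, rfl⟩
    · rintro ⟨k, rfl⟩; exact ⟨e.symm k, by simp [x, t]⟩
  obtain ⟨φ, hφ⟩ := exists_functionals (fun i => u (x i)) hxli
  refine ⟨_, x, φ, fun h => hφ (Ideal.algebraMap_residueField_eq_zero.mpr h), ?_⟩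
  let X := Submodule.span A (Set.range x)
  have hQ : Subsingleton (p.ResidueField ⊗[A] (M ⧸ X)) := by
    refine subsingleton_of_forall_eq 0 fun q => ?_
    obtain ⟨y, rfl⟩ := LinearMap.lTensor_surjective p.ResidueField X.mkQ_surjective q
    have hy : y ∈ Submodule.span p.ResidueField
        (Set.range fun i => (1 : p.ResidueField) ⊗ₜ[A] x i) := by rw [hxspan]; trivial
    induction hy using Submodule.span_induction with
    | mem y hy =>
      obtain ⟨i, rfl⟩ := hy
      rw [LinearMap.lTensor_tmul, Submodule.mkQ_apply,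
        (Submodule.Quotient.mk_eq_zero X).mpr (Submodule.subset_span ⟨i, rfl⟩),
        TensorProduct.tmul_zero]
    | zero => simp
    | add a b _ _ ha hb => rw [map_add, ha, hb, add_zero]
    | smul c a _ ha =>
      change X.mkQ.baseChange p.ResidueField (c • a) = 0
      rw [map_smul]
      change c • X.mkQ.lTensor p.ResidueField a = 0
      rw [ha, smul_zero]
  have hsupp : (⟨p, ‹p.IsPrime›⟩ : PrimeSpectrum A) ∉ Module.support A (M ⧸ X) := by
    rw [Module.mem_support_iff_nontrivial_residueField_tensorProduct]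
    exact not_nontrivial_iff_subsingleton.mpr hQ
  intro y
  obtain ⟨s, hs, hsy⟩ := Module.notMem_support_iff'.mp hsupp (Submodule.Quotient.mk y)
  refine ⟨s, hs, ?_⟩
  rwa [← Submodule.Quotient.mk_smul, Submodule.Quotient.mk_eq_zero] at hsy

theorem exists_leftInvAt_iff_injective [Module.Finite A M] [Module.Projective A N] (p : Ideal A)
    [p.IsPrime] :
    (∃ f ∉ p, LeftInvAt u f) ↔ Function.Injective (u.lTensor p.ResidueField) := by
  constructor
  · rintro ⟨f, hf, h⟩
    exact lTensor_injective_of_leftInvAt u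
      (fun h0 => hf (Ideal.algebraMap_residueField_eq_zero.mp h0)) h
  · intro h
    obtain ⟨m, x, φ, hd, hgen⟩ := exists_minor_of_injective u p h
    exact leftInvAt_of_minor u p x φ hd hgen

section Localized

variable (S : Submonoid A) {M' N' : Type*} [AddCommGroup M'] [Module A M'] [AddCommGroup N']
  [Module A N'] (f : M →ₗ[A] M') (g : N →ₗ[A] N') [IsLocalizedModule S f] [IsLocalizedModule S g]

omit g in
theorem exists_leftInvAt_of_retraction [Module.Finite A M] [Module.Projective A N]
    (v : N →ₗ[A] M') (hv : v ∘ₗ u = f) : ∃ a ∈ S, LeftInvAt u a := by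
  classical
  obtain ⟨s, hs⟩ := Module.projective_def'.mp ‹Module.Projective A N›
  obtain ⟨G, hG⟩ := (Module.Finite.fg_top : (⊤ : Submodule A M).FG)
  let T : Finset N := G.biUnion fun y => (s (u y)).support
  obtain ⟨b, hb⟩ := IsLocalizedModule.exist_integer_multiples S f T (fun t => v t)
  let mt : N → M := fun t => if h : t ∈ T then (hb t h).choose else 0
  have hmt : ∀ t ∈ T, f (mt t) = b.val • v t := by
    intro t ht
    simp only [mt, dif_pos ht]
    exact (hb t ht).choose_spec
  let w : N →ₗ[A] M := Finsupp.linearCombination A mt ∘ₗ s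
  have hw : ∀ y ∈ G, f (w (u y)) = f (b.val • y) := by
    intro y hy
    have h1 : v (u y) = f y := LinearMap.congr_fun hv y
    have h2 : u y = Finsupp.linearCombination A id (s (u y)) := (LinearMap.congr_fun hs (u y)).symm
    rw [map_smul, ← h1]
    conv_rhs => rw [h2]
    simp only [w, LinearMap.comp_apply, Finsupp.linearCombination_apply, Finsupp.sum, map_sum,
      map_smul, Finset.smul_sum, id_eq]
    refine Finset.sum_congr rfl fun t ht => ?_
    rw [hmt t (Finset.mem_biUnion.mpr ⟨y, hy, ht⟩), smul_comm]
  have hex : ∀ y ∈ G, ∃ c : S, c • w (u y) = c • (b.val • y) :=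
    fun y hy => (IsLocalizedModule.eq_iff_exists S f).mp (hw y hy)
  choose c hc using hex
  let C : A := ∏ y ∈ G.attach, (c y.1 y.2 : A)
  have hCS : C ∈ S := prod_mem fun y _ => (c y.1 y.2).2
  refine ⟨C * b.val, mul_mem hCS b.2, C • w, ?_⟩
  apply LinearMap.ext_on (s := (G : Set M)) hG
  intro y hy
  simp only [LinearMap.comp_apply, LinearMap.smul_apply, LinearMap.id_apply, mul_smul]
  have hCy : C = (∏ z ∈ G.attach.erase ⟨y, hy⟩, (c z.1 z.2 : A)) * (c y hy : A) :=
    (Finset.prod_erase_mul _ _ (Finset.mem_attach _ _)).symm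
  rw [hCy, mul_smul, mul_smul]
  congr 1
  exact hc y hy

theorem leftInverse_map_of_leftInvAt {a : A} (ha : a ∈ S) (h : LeftInvAt u a) :
    ∃ w : N' →ₗ[A] M', w ∘ₗ IsLocalizedModule.map S f g u = LinearMap.id := by
  obtain ⟨w, hw⟩ := h
  obtain ⟨i, hi⟩ := (IsLocalizedModule.map_units f ⟨a, ha⟩).exists_left_inv
  refine ⟨i ∘ₗ IsLocalizedModule.map S g f w, ?_⟩
  apply IsLocalizedModule.ext S f (IsLocalizedModule.map_units f)
  ext y
  simp only [LinearMap.comp_apply, IsLocalizedModule.map_apply, LinearMap.id_apply]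
  have h1 : w (u y) = a • y := LinearMap.congr_fun hw y
  rw [h1, map_smul]
  have h2 := LinearMap.congr_fun hi (f y)
  simpa [Module.End.mul_apply] using h2

theorem exists_leftInverse_map_iff [Module.Finite A M] [Module.Projective A N] :
    (∃ w : N' →ₗ[A] M', w ∘ₗ IsLocalizedModule.map S f g u = LinearMap.id) ↔
      ∃ a ∈ S, LeftInvAt u a := by
  refine ⟨fun ⟨w, hw⟩ => ?_, fun ⟨a, ha, h⟩ => leftInverse_map_of_leftInvAt u S f g ha h⟩
  refine exists_leftInvAt_of_retraction u S f (w ∘ₗ g) ?_
  ext y
  have h1 := LinearMap.congr_fun hw (f y)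
  simpa [IsLocalizedModule.map_apply] using h1

end Localized

end Groth.Agent.LeftInv
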