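import Groth.Agent.LeftInv.Smooth

/-!
# Zariski's Jacobian criterion of formal smoothness
-/

set_option autoImplicit false
universe u

open TensorProduct Algebra

namespace Groth.Agent.LeftInv

theorem jacobian_criterion {A B : Type u} [CommRing A] [CommRing B] [Algebra A B]
    [Algebra.FormallySmooth A B] [IsNoetherianRing B] (J q : Ideal B) [q.IsPrime] (hJq : J ≤ q)
    [(q.map (Ideal.Quotient.mk J)).IsPrime] :
    Algebra.FormallySmooth A (Localization.AtPrime (q.map (Ideal.Quotient.mk J))) ↔
      ∃ (m : ℕ) (f : Fin m → B) (D : Fin m → Derivation A B B),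
        (∀ i, f i ∈ J) ∧
        J.map (algebraMap B (Localization.AtPrime q)) =
          Ideal.span (Set.range fun i => algebraMap B (Localization.AtPrime q) (f i)) ∧
        Matrix.det (Matrix.of fun i j => D j (f i)) ∉ q := by
  classical
  have hsurj : Function.Surjective (algebraMap B (B ⧸ J)) := Ideal.Quotient.mk_surjective
  set p := q.map (Ideal.Quotient.mk J) with hp
  have hker : RingHom.ker (algebraMap B (B ⧸ J)) = J := Ideal.mk_ker
  haveI : Module.Finite B (RingHom.ker (algebraMap B (B ⧸ J))) :=
    Module.Finite.of_fg (IsNoetherian.noetherian _)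
  haveI : Module.Finite B (RingHom.ker (algebraMap B (B ⧸ J))).Cotangent :=
    Module.Finite.of_surjective _ (Ideal.toCotangent_surjective _)
  have hmem : ∀ b : B, algebraMap B (B ⧸ J) b ∈ p ↔ b ∈ q := by
    intro b
    rw [hp, Ideal.Quotient.algebraMap_eq, ← Ideal.mem_comap,
      Ideal.comap_map_of_surjective _ Ideal.Quotient.mk_surjective, ← RingHom.ker_eq_comap_bot,
      Ideal.mk_ker, sup_eq_left.mpr hJq]
  haveI := finite_cotangent (A := A) hsurj
  rw [formallySmooth_localization_iff hsurj p.primeCompl]
  set P := ext (A := A) hsurj with hP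
  let μ : RingHom.ker (algebraMap B (B ⧸ J)) →ₗ[B] P.Cotangent := Extension.Cotangent.mk (P := P)
  have hμu : ∀ z, P.cotangentComplex (μ z) = (1 : B ⧸ J) ⊗ₜ[B] KaehlerDifferential.D A B z.1 :=
    fun z => Extension.cotangentComplex_mk (P := P) z
  have hμ : Function.Surjective μ := Extension.Cotangent.mk_surjective (P := P)
  have hμ0 : ∀ z, μ z = 0 → (z : B) ∈ J ^ 2 := by
    intro z hz
    have h : Ideal.toCotangent (RingHom.ker (algebraMap B (B ⧸ J))) z = 0 :=
      congrArg (Extension.Cotangent.val (P := P)) hz
    rw [Ideal.toCotangent_eq_zero] at h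
    have h2 : RingHom.ker (algebraMap B (B ⧸ J)) ^ 2 = J ^ 2 := by rw [hker]
    exact h2.le h
  constructor
  · intro hL
    have hinj := (exists_leftInvAt_iff_injective P.cotangentComplex p).mp hL
    obtain ⟨m, x, φ, hd, hgen⟩ := exists_minor_of_injective P.cotangentComplex p hinj
    choose fx hfx using fun i => hμ (x i)
    let f : Fin m → B := fun i => (fx i).1
    have hfJ : ∀ i, f i ∈ J := fun i => hker ▸ (fx i).2
    let g : Fin m → (Ω[B⁄A] →ₗ[B] B ⧸ J) := fun j =>
      ((φ j).restrictScalars B) ∘ₗ (TensorProduct.mk B (B ⧸ J) Ω[B⁄A] 1)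
    choose ψ hψ using fun j => Module.projective_lifting_property (Algebra.linearMap B (B ⧸ J)) (g j) hsurj
    let D : Fin m → Derivation A B B := fun j => (ψ j).compDer (KaehlerDifferential.D A B)
    have hD : ∀ i j, algebraMap B (B ⧸ J) (D j (f i)) = φ j (P.cotangentComplex (x i)) := by
      intro i j
      rw [← hfx i, hμu]
      exact LinearMap.congr_fun (hψ j) (KaehlerDifferential.D A B (f i))
    refine ⟨m, f, D, hfJ, ?_, ?_⟩
    · refine le_antisymm ?_ ?_
      · refine Submodule.le_of_le_smul_of_le_jacobson_bot (I := J.map (algebraMap B (Localization.AtPrime q)))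
          (IsNoetherian.noetherian _) ?_ ?_
        · rw [IsLocalRing.jacobson_eq_maximalIdeal _ bot_ne_top,
            ← Localization.AtPrime.map_eq_maximalIdeal]
          exact Ideal.map_mono hJq
        · rw [Ideal.map_le_iff_le_comap]
          intro b hb
          rw [Ideal.mem_comap]
          have hb' : b ∈ RingHom.ker (algebraMap B (B ⧸ J)) := by rwa [hker]
          obtain ⟨s, hs, hsy⟩ := hgen (μ ⟨b, hb'⟩)
          obtain ⟨s, rfl⟩ := hsurj s
          obtain ⟨c, hc⟩ := (Submodule.mem_span_range_iff_exists_fun (B ⧸ J)).mp hsy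
          choose c0 hc0 using fun i => hsurj (c i)
          have hq : s ∉ q := fun h => hs ((hmem s).mpr h)
          have hdiff : s * b - ∑ i, c0 i * f i ∈ J ^ 2 := by
            have e1 : μ (s • ⟨b, hb'⟩ - ∑ i, c0 i • fx i) = 0 := by
              rw [map_sub, map_smul, map_sum, sub_eq_zero, ← algebraMap_smul (B ⧸ J) s]
              refine hc.symm.trans (Finset.sum_congr rfl fun i _ => ?_)
              rw [map_smul, hfx i, ← hc0 i, algebraMap_smul]
            simpa [f] using hμ0 _ e1
          have hu : IsUnit (algebraMap B (Localization.AtPrime q) s) :=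
            IsLocalization.map_units _ (⟨s, hq⟩ : q.primeCompl)
          rw [← Ideal.unit_mul_mem_iff_mem _ hu, ← map_mul,
            ← sub_add_cancel (s * b) (∑ i, c0 i * f i), map_add]
          refine Submodule.add_mem _ (Submodule.mem_sup_right ?_) (Submodule.mem_sup_left ?_)
          · rw [smul_eq_mul, ← pow_two, ← Ideal.map_pow]
            exact Ideal.mem_map_of_mem _ hdiff
          · rw [map_sum]
            exact Submodule.sum_mem _ fun i _ => by
              rw [map_mul]; exact Ideal.mul_mem_left _ _ (Ideal.subset_span ⟨i, rfl⟩)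
      · rw [Ideal.span_le]
        rintro _ ⟨i, rfl⟩
        exact Ideal.mem_map_of_mem _ (hfJ i)
    · intro hdet
      apply hd
      have h1 := (hmem _).mpr hdet
      rw [RingHom.map_det, ← Matrix.det_transpose] at h1
      convert h1 using 3
      ext j i
      exact (hD i j).symm
  · rintro ⟨m, f, D, hf, hspan, hdet⟩
    let fx : Fin m → RingHom.ker (algebraMap B (B ⧸ J)) := fun i => ⟨f i, by rw [hker]; exact hf i⟩
    let x : Fin m → P.Cotangent := fun i => μ (fx i)
    let φ : Fin m → (P.CotangentSpace →ₗ[B ⧸ J] B ⧸ J) := fun j =>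
      (Algebra.linearMap B (B ⧸ J) ∘ₗ (D j).liftKaehlerDifferential).liftBaseChange (B ⧸ J)
    refine leftInvAt_of_minor P.cotangentComplex p x φ ?_ ?_
    · intro h
      apply hdet
      rw [← hmem, RingHom.map_det, ← Matrix.det_transpose]
      convert h using 3
      ext j i
      change algebraMap B (B ⧸ J) (D j (f i)) = φ j (P.cotangentComplex (x i))
      simp only [x, φ, fx, hμu]
      erw [LinearMap.liftBaseChange_tmul]
      simp
    · intro y
      obtain ⟨⟨b, hb⟩, rfl⟩ := hμ y
      have hbJ : b ∈ J := hker ▸ hb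
      have h1 := Ideal.mem_map_of_mem (algebraMap B (Localization.AtPrime q)) hbJ
      rw [hspan, show (fun i => algebraMap B (Localization.AtPrime q) (f i)) =
        algebraMap B (Localization.AtPrime q) ∘ f from rfl, Set.range_comp, ← Ideal.map_span,
        IsLocalization.algebraMap_mem_map_algebraMap_iff q.primeCompl] at h1
      obtain ⟨s, hs, hsb⟩ := h1
      obtain ⟨c, hc⟩ := (Ideal.mem_span_range_iff_exists_fun).mp hsb
      refine ⟨algebraMap B (B ⧸ J) s, fun h => hs ((hmem s).mp h), ?_⟩
      rw [Submodule.mem_span_range_iff_exists_fun]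
      refine ⟨fun i => algebraMap B (B ⧸ J) (c i), ?_⟩
      have e1 : s • (⟨b, hb⟩ : RingHom.ker (algebraMap B (B ⧸ J))) = ∑ i, c i • fx i := by
        apply Subtype.ext
        simp only [SetLike.val_smul, AddSubmonoidClass.coe_finsetSum, smul_eq_mul]
        exact hc.symm
      rw [algebraMap_smul, ← map_smul, e1, map_sum]
      refine Finset.sum_congr rfl fun i _ => ?_
      rw [map_smul, algebraMap_smul]

end Groth.Agent.LeftInv
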